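/-
The combinatorics of signed permutations of seven letters needed for the Sylow 2-subgroup `2^6:D8` of `Ω₇(q)`,
`q ≡ ±3 (mod 8)`: sign changes, the dihedral group of order 8 on seven letters, and its fixed sign changes.
-/
import Mathlib

set_option autoImplicit false

namespace Cfsg.Agent.OmegaSevenSylow

open Equiv

/-- Sign vectors. -/
abbrev SignVec := Fin 7 → ℤˣ

/-- The sign change at two places. -/
def flip2 (i j : Fin 7) : SignVec := Pi.mulSingle i (-1) * Pi.mulSingle j (-1)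

theorem flip2_comm (i j : Fin 7) : flip2 i j = flip2 j i := mul_comm _ _

theorem flip2_even (i j : Fin 7) : ∏ k, flip2 i j k = 1 := by
  simp [flip2, Finset.prod_mul_distrib]

theorem flip2_apply {i j : Fin 7} (h : i ≠ j) (k : Fin 7) :
    flip2 i j k = if k = i ∨ k = j then -1 else 1 := by
  rw [flip2, Pi.mul_apply, Pi.mulSingle_apply, Pi.mulSingle_apply]
  by_cases h1 : k = i
  · subst h1; simp [h]
  · by_cases h2 : k = j <;> simp [h1, h2, Ne.symm h]

theorem flip2_comp (σ : Perm (Fin 7)) (i j : Fin 7) :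
    (fun k => flip2 i j (σ.symm k)) = flip2 (σ i) (σ j) := by
  funext k
  simp [flip2, Pi.mulSingle_apply, Equiv.symm_apply_eq]

/-- The element of order 4. -/
def rotA : Perm (Fin 7) := swap 0 1 * swap 1 2 * swap 2 3 * swap 4 5

/-- A reflection. -/
def flipB : Perm (Fin 7) := swap 0 2 * swap 4 5

/-- The dihedral group of order 8 on `{0,1,2,3}`, corrected to be even on `{4,5}`. -/
def d8 : Fin 8 → Perm (Fin 7) :=
  ![1, rotA, rotA * rotA, rotA * rotA * rotA, flipB, rotA * flipB, rotA * rotA * flipB,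
    rotA * rotA * rotA * flipB]

theorem d8_mul (i j : Fin 8) : ∃ k, d8 i * d8 j = d8 k := by
  revert i j
  decide +kernel

theorem d8_inv (i : Fin 8) : ∃ k, d8 i * d8 k = 1 := by
  revert i
  decide +kernel

theorem d8_injective : Function.Injective d8 := by decide +kernel

/-- The subgroup `d8`. -/
def dihedral : Subgroup (Perm (Fin 7)) where
  carrier := Set.range d8
  mul_mem' := by
    rintro _ _ ⟨i, rfl⟩ ⟨j, rfl⟩
    obtain ⟨k, hk⟩ := d8_mul i j
    exact ⟨k, hk.symm⟩
  one_mem' := ⟨0, rfl⟩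
  inv_mem' := by
    rintro _ ⟨i, rfl⟩
    obtain ⟨k, hk⟩ := d8_inv i
    exact ⟨k, (inv_eq_of_mul_eq_one_right hk).symm⟩

theorem mem_dihedral {σ : Perm (Fin 7)} : σ ∈ dihedral ↔ ∃ i, d8 i = σ := Iff.rfl

theorem card_dihedral : Nat.card dihedral = 8 := by
  show Nat.card (Set.range d8) = 8
  rw [Nat.card_range_of_injective d8_injective, Nat.card_fin]

theorem rotA_mem : rotA ∈ dihedral := ⟨1, rfl⟩

theorem sign_rotA : Perm.sign rotA = 1 := by
  simp [rotA, Perm.sign_swap']

theorem sign_flipB : Perm.sign flipB = 1 := by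
  simp [flipB, Perm.sign_swap']

theorem sign_d8 (i : Fin 8) : Perm.sign (d8 i) = 1 := by
  fin_cases i <;> simp [d8, sign_rotA, sign_flipB]

theorem sign_of_mem {σ : Perm (Fin 7)} (h : σ ∈ dihedral) : Perm.sign σ = 1 := by
  obtain ⟨i, rfl⟩ := h
  exact sign_d8 i

theorem rotA_sq_ne : rotA * rotA ≠ 1 := by decide +kernel

/-- Even sign changes fixed by an involution of the group: at most 16. -/
theorem fixed_one (i : Fin 8) (hi : d8 i ≠ 1) (hi2 : d8 i * d8 i = 1) :
    (Finset.univ.filter fun ε : SignVec => ∏ k, ε k = 1 ∧ ∀ k, ε (d8 i k) = ε k).card ≤ 16 := by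
  revert i
  decide +kernel

/-- Even sign changes fixed by a four group of the group: at most 8. -/
theorem fixed_two (i j : Fin 8) (hi : d8 i ≠ 1) (hj : d8 j ≠ 1) (hij : i ≠ j)
    (hi2 : d8 i * d8 i = 1) (hj2 : d8 j * d8 j = 1) (hc : d8 i * d8 j = d8 j * d8 i) :
    (Finset.univ.filter fun ε : SignVec =>
      ∏ k, ε k = 1 ∧ (∀ k, ε (d8 i k) = ε k) ∧ ∀ k, ε (d8 j k) = ε k).card ≤ 8 := by
  revert i j
  decide +kernel

/-- Elements of order 4. -/
theorem d8_order_four (i : Fin 8) (h : d8 i * d8 i ≠ 1) : d8 i = rotA ∨ d8 i = rotA * rotA * rotA := by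
  revert i
  decide +kernel

theorem rotA_fixed (k : Fin 7) (h : rotA k = k) : k = 6 := by
  revert k
  decide +kernel

theorem rotA_three_fixed (k : Fin 7) (h : (rotA * rotA * rotA) k = k) : k = 6 := by
  revert k
  decide +kernel

/-- The candidate permutation from the images of `0` and `4`. -/
def cand (a' : Perm (Fin 7)) (x0 x4 : Fin 7) : Fin 7 → Fin 7 :=
  ![x0, a' x0, a' (a' x0), a' (a' (a' x0)), x4, a' x4, 6]

set_option maxRecDepth 100000 in
theorem support_table :
    ∀ a' ∈ [rotA, rotA * rotA * rotA], ∀ x : Fin 7,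
      (a' (a' x) ≠ x → x ∈ [0, 1, 2, 3]) ∧ (a' x ≠ x → a' (a' x) = x → x ∈ [4, 5]) := by
  decide +kernel

set_option maxRecDepth 100000 in
theorem normaliser_table :
    ∀ a' ∈ [rotA, rotA * rotA * rotA], ∀ x0 ∈ [0, 1, 2, 3], ∀ x4 ∈ [4, 5],
      ∃ i, cand a' x0 x4 = ⇑(d8 i) ∨ cand a' x0 x4 = ⇑(d8 i * swap (4 : Fin 7) 5 : Perm (Fin 7)) := by
  decide +kernel

/-- An even permutation normalising `⟨rotA⟩` is in the dihedral group. -/
theorem mem_dihedral_of_conj {σ : Perm (Fin 7)} (hσ : Perm.sign σ = 1)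
    (h : σ * rotA * σ⁻¹ ∈ dihedral) : σ ∈ dihedral := by
  obtain ⟨a', ha', hi⟩ : ∃ a', (a' = rotA ∨ a' = rotA * rotA * rotA) ∧ a' = σ * rotA * σ⁻¹ := by
    obtain ⟨i, hi⟩ := h
    refine ⟨d8 i, d8_order_four i ?_, hi⟩
    rw [hi, conj_mul, Ne, conj_eq_one_iff]
    exact rotA_sq_ne
  have hmem : a' ∈ [rotA, rotA * rotA * rotA] := List.mem_pair.2 ha'
  have hcom : ∀ k, σ (rotA k) = a' (σ k) := fun k => by
    rw [hi]; simp [Perm.mul_apply]
  obtain ⟨r0, r1, r2, r4, r5, r6⟩ :
      rotA 0 = 1 ∧ rotA 1 = 2 ∧ rotA 2 = 3 ∧ rotA 4 = 5 ∧ rotA 5 = 4 ∧ rotA 6 = 6 := by decide +kernel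
  have h6 : σ 6 = 6 := by
    have hfix : a' (σ 6) = σ 6 := by rw [← hcom, r6]
    rcases ha' with h | h
    · exact rotA_fixed (σ 6) (by rw [← h]; exact hfix)
    · exact rotA_three_fixed (σ 6) (by rw [← h]; exact hfix)
  have e1 : σ 1 = a' (σ 0) := by rw [← hcom, r0]
  have e2 : σ 2 = a' (a' (σ 0)) := by rw [← e1, ← hcom, r1]
  have e3 : σ 3 = a' (a' (a' (σ 0))) := by rw [← e2, ← hcom, r2]
  have e5 : σ 5 = a' (σ 4) := by rw [← hcom, r4]
  have e4 : a' (a' (σ 4)) = σ 4 := by rw [← e5, ← hcom, r5]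
  have hfun : ∀ k, σ k = ![σ 0, a' (σ 0), a' (a' (σ 0)), a' (a' (a' (σ 0))), σ 4, a' (σ 4), 6] k := by
    intro k
    fin_cases k <;> simp [e1, e2, e3, e5, h6]
  obtain ⟨j, hj | hj⟩ := normaliser_table a' hmem (σ 0)
    ((support_table a' hmem _).1 (by rw [← e2]; exact fun h => absurd (σ.injective h) (by decide))) (σ 4)
    ((support_table a' hmem _).2 (by rw [← e5]; exact fun h => absurd (σ.injective h) (by decide)) e4)
  · exact ⟨j, (Equiv.ext fun k => (hfun k).trans (congrFun hj k)).symm⟩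
  · exfalso
    have : σ = d8 j * swap 4 5 := Equiv.ext fun k => (hfun k).trans (congrFun hj k)
    rw [this, map_mul, sign_d8, Perm.sign_swap (by decide)] at hσ
    exact absurd hσ (by decide)

/-- The double transposition `(0 1)(2 3)`. -/
def dt : Perm (Fin 7) := swap 0 1 * swap 2 3

theorem dt_mem : dt ∈ dihedral := by
  rw [mem_dihedral]
  decide +kernel

/-- Even permutations carrying `dt` to double transpositions of the dihedral group which generate it. -/
def moves : Fin 4 → Perm (Fin 7) :=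
  ![1, swap 1 3 * swap 4 5, swap 1 2 * swap 4 5, swap 1 2 * swap 2 4 * swap 4 3 * swap 3 5]

theorem sign_moves (i : Fin 4) : Perm.sign (moves i) = 1 := by
  fin_cases i <;> simp [moves, Perm.sign_swap']

theorem moves_dt (i : Fin 4) : moves i * dt * (moves i)⁻¹ ∈ dihedral := by
  rw [mem_dihedral]
  revert i
  decide +kernel

/-- Every element of the dihedral group is a product of two of these double transpositions. -/
theorem moves_generate (i : Fin 8) :
    d8 i = 1 ∨ (∃ k, d8 i = moves k * dt * (moves k)⁻¹) ∨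
      ∃ k l, d8 i = moves k * dt * (moves k)⁻¹ * (moves l * dt * (moves l)⁻¹) := by
  revert i
  decide +kernel

/-- Six of seven letters leave two with equal signs. -/
theorem exists_pair_eq (ε : SignVec) (s : Finset (Fin 7)) (hs : s.card ≤ 3) :
    ∃ l m, l ∉ s ∧ m ∉ s ∧ l ≠ m ∧ ε l = ε m := by
  obtain ⟨l, hl, m, hm, hlm, he⟩ := Finset.exists_ne_map_eq_of_card_lt_of_maps_to
    (s := sᶜ) (t := (Finset.univ : Finset ℤˣ)) (f := ε)
    (by rw [Finset.card_compl, Finset.card_univ, Fintype.card_units_int, Fintype.card_fin]; omega)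
    (fun _ _ => Finset.mem_univ _)
  exact ⟨l, m, Finset.mem_compl.1 hl, Finset.mem_compl.1 hm, hlm, he⟩

end Cfsg.Agent.OmegaSevenSylow
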