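/-
Monomial isometries of the sum of seven squares over a finite field in which `2` is a non-square, with their
determinant and sphere sign: such an isometry lies in `Ω` iff the permutation and the sign vector are both even.
-/
import Cfsg.Agent.Lib.OmegaSevenSylow.Signs
import Cfsg.Agent.Lib.QForm.OmegaQuot
import Cfsg.Agent.Lib.Forms.Isom
import Cfsg.Prelude.Def_Classical

set_option autoImplicit false
set_option linter.unusedSectionVars false

namespace Cfsg.Agent.OmegaSevenSylow

open scoped Matrix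
open Equiv

variable (F : Type*) [Field F]

/-- The sum of seven squares. -/
noncomputable def sevenForm : QuadraticForm F (Fin 7 → F) :=
  QuadraticMap.weightedSumSquares F (fun _ : Fin 7 => (1 : F))

/-- Its orthogonal group. -/
abbrev O7 := ↥(isometryGroup F ⇑(sevenForm F))

variable {F}

theorem sevenForm_apply (x : Fin 7 → F) : sevenForm F x = ∑ i, x i * x i := by
  simp [sevenForm, QuadraticMap.weightedSumSquares_apply]

theorem sevenForm_polar (x y : Fin 7 → F) :
    QuadraticMap.polar ⇑(sevenForm F) x y = 2 * ∑ i, x i * y i := by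
  simp only [QuadraticMap.polar, sevenForm_apply, Pi.add_apply, ← Finset.sum_sub_distrib, Finset.mul_sum]
  exact Finset.sum_congr rfl fun i _ => by ring

theorem sevenForm_nondegenerate (h2 : (2 : F) ≠ 0) :
    (QuadraticMap.polarBilin (sevenForm F)).Nondegenerate := by
  refine ⟨fun x hx => funext fun i => ?_, fun x hx => funext fun i => ?_⟩
  · have := hx (Pi.single i 1)
    rw [QuadraticMap.polarBilin_apply_apply, sevenForm_polar] at this
    simpa [Pi.single_apply, h2] using this
  · have := hx (Pi.single i 1)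
    rw [QuadraticMap.polarBilin_apply_apply, sevenForm_polar] at this
    simpa [Pi.single_apply, h2] using this

/-- The action. -/
noncomputable def act7 (g : O7 F) (x : Fin 7 → F) : Fin 7 → F := QForm.act (sevenForm F) g x

theorem act7_mul (g h : O7 F) (x : Fin 7 → F) : act7 (g * h) x = act7 g (act7 h x) :=
  QForm.act_mul (sevenForm F) g h x

theorem act7_form (g : O7 F) (x : Fin 7 → F) : sevenForm F (act7 g x) = sevenForm F x :=
  QForm.act_map (sevenForm F) g x

theorem o7_ext {g h : O7 F} (H : ∀ x, act7 g x = act7 h x) : g = h := QForm.isometry_ext _ H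

/-- An isometry from a linear equivalence. -/
noncomputable def ofMap (f : (Fin 7 → F) ≃ₗ[F] (Fin 7 → F)) (h : ∀ x, sevenForm F (f x) = sevenForm F x) :
    O7 F :=
  (Forms.isometryGroupEquiv ⇑(sevenForm F)).symm ⟨f, fun u _ => h u⟩

theorem act_ofMap (f : (Fin 7 → F) ≃ₗ[F] (Fin 7 → F)) (h : ∀ x, sevenForm F (f x) = sevenForm F x)
    (x : Fin 7 → F) : act7 (ofMap f h) x = f x := by
  rw [act7, QForm.act, ← Forms.isometryGroupEquiv_apply, ofMap, MulEquiv.apply_symm_apply]

/-- A sign as a scalar. -/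
def sgnF : ℤˣ →* F := (Int.castRingHom F : ℤ →* F).comp (Units.coeHom ℤ)

theorem sgnF_mul_self (u : ℤˣ) : sgnF (F := F) u * sgnF u = 1 := by
  rw [← map_mul, Int.units_mul_self, map_one]

theorem sgnF_neg_one : sgnF (F := F) (-1) = -1 := by simp [sgnF]

theorem sgnF_injective (h2 : (2 : F) ≠ 0) {u : ℤˣ} (h : sgnF (F := F) u = 1) : u = 1 := by
  rcases Int.units_eq_one_or u with rfl | rfl
  · rfl
  · rw [sgnF_neg_one] at h
    exact absurd (by linear_combination -h) h2

/-- Sign changes. -/
noncomputable def dgMap (ε : SignVec) : (Fin 7 → F) ≃ₗ[F] (Fin 7 → F) where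
  toFun x i := sgnF (ε i) * x i
  invFun x i := sgnF (ε i) * x i
  map_add' x y := funext fun i => mul_add _ _ _
  map_smul' r x := funext fun i => by simp [mul_left_comm]
  left_inv x := funext fun i => by simp [← mul_assoc, sgnF_mul_self]
  right_inv x := funext fun i => by simp [← mul_assoc, sgnF_mul_self]

theorem dgMap_form (ε : SignVec) (x : Fin 7 → F) : sevenForm F (dgMap ε x) = sevenForm F x := by
  rw [sevenForm_apply, sevenForm_apply]
  refine Finset.sum_congr rfl fun i _ => ?_
  show sgnF (ε i) * x i * (sgnF (ε i) * x i) = _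
  linear_combination (x i * x i) * sgnF_mul_self (F := F) (ε i)

variable (F) in
/-- The sign changes, as a homomorphism. -/
noncomputable def dg : SignVec →* O7 F :=
  MonoidHom.mk' (fun ε => ofMap (dgMap ε) (dgMap_form ε)) fun ε δ => o7_ext fun x => by
    rw [act7_mul, act_ofMap, act_ofMap, act_ofMap]
    funext i
    show sgnF ((ε * δ) i) * x i = sgnF (ε i) * (sgnF (δ i) * x i)
    rw [Pi.mul_apply, map_mul, mul_assoc]

theorem act_dg (ε : SignVec) (x : Fin 7 → F) : act7 (dg F ε) x = fun i => sgnF (ε i) * x i :=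
  act_ofMap _ _ x

/-- Coordinate permutations. -/
noncomputable def pmMap (σ : Perm (Fin 7)) : (Fin 7 → F) ≃ₗ[F] (Fin 7 → F) :=
  LinearEquiv.funCongrLeft F F σ.symm

theorem pmMap_form (σ : Perm (Fin 7)) (x : Fin 7 → F) : sevenForm F (pmMap σ x) = sevenForm F x := by
  rw [sevenForm_apply, sevenForm_apply]
  exact Equiv.sum_comp σ.symm fun i => x i * x i

variable (F) in
/-- The coordinate permutations, as a homomorphism. -/
noncomputable def pm : Perm (Fin 7) →* O7 F :=
  MonoidHom.mk' (fun σ => ofMap (pmMap σ) (pmMap_form σ)) fun σ τ => o7_ext fun x => by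
    rw [act7_mul, act_ofMap, act_ofMap, act_ofMap]
    rfl

theorem act_pm (σ : Perm (Fin 7)) (x : Fin 7 → F) : act7 (pm F σ) x = fun i => x (σ.symm i) :=
  act_ofMap _ _ x

variable (F) in
/-- The monomial isometry of a sign vector and a permutation. -/
noncomputable def mon (ε : SignVec) (σ : Perm (Fin 7)) : O7 F := dg F ε * pm F σ

theorem act_mon (ε : SignVec) (σ : Perm (Fin 7)) (x : Fin 7 → F) :
    act7 (mon F ε σ) x = fun i => sgnF (ε i) * x (σ.symm i) := by
  rw [mon, act7_mul, act_pm, act_dg]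

theorem pm_conj (σ : Perm (Fin 7)) (ε : SignVec) :
    pm F σ * dg F ε * (pm F σ)⁻¹ = dg F fun i => ε (σ.symm i) := by
  rw [mul_inv_eq_iff_eq_mul]
  refine o7_ext fun x => ?_
  rw [act7_mul, act7_mul, act_dg, act_dg, act_pm, act_pm]

theorem mon_mul (ε δ : SignVec) (σ τ : Perm (Fin 7)) :
    mon F ε σ * mon F δ τ = mon F (ε * fun i => δ (σ.symm i)) (σ * τ) := by
  rw [mon, mon, mon, map_mul, map_mul, ← pm_conj]
  group

theorem mon_one : mon F 1 1 = 1 := by simp [mon]

theorem mon_inv (ε : SignVec) (σ : Perm (Fin 7)) :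
    (mon F ε σ)⁻¹ = mon F (fun i => ε (σ i))⁻¹ σ⁻¹ := by
  refine inv_eq_of_mul_eq_one_right ?_
  rw [mon_mul, mul_inv_cancel, ← mon_one]
  congr 1
  funext i
  simp

theorem act_mon_single (ε : SignVec) (σ : Perm (Fin 7)) (j : Fin 7) :
    act7 (mon F ε σ) (Pi.single j 1) = Pi.single (σ j) (sgnF (ε (σ j))) := by
  rw [act_mon]
  funext i
  by_cases h : i = σ j
  · subst h; simp
  · rw [Pi.single_eq_of_ne h, Pi.single_eq_of_ne (fun e => h (by rw [← e, Equiv.apply_symm_apply])), mul_zero]

theorem mon_inj (h2 : (2 : F) ≠ 0) {ε δ : SignVec} {σ τ : Perm (Fin 7)} (h : mon F ε σ = mon F δ τ) :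
    ε = δ ∧ σ = τ := by
  have key : ∀ j, σ j = τ j ∧ ε (σ j) = δ (σ j) := by
    intro j
    have h' := congrArg (fun g => act7 g (Pi.single j 1) (σ j)) h
    simp only [act_mon_single, Pi.single_eq_same] at h'
    by_cases hst : σ j = τ j
    · refine ⟨hst, ?_⟩
      rw [← hst, Pi.single_eq_same] at h'
      have h1 : sgnF (F := F) (ε (σ j) * δ (σ j)) = 1 := by rw [map_mul, h', sgnF_mul_self]
      have h2' := sgnF_injective h2 h1
      rwa [← mul_inv_eq_one, Int.units_inv_eq_self]
    · rw [Pi.single_eq_of_ne hst] at h'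
      have := sgnF_mul_self (F := F) (ε (σ j))
      rw [h', mul_zero] at this
      exact absurd this zero_ne_one
  refine ⟨funext fun i => ?_, Equiv.ext fun j => (key j).1⟩
  have := (key (σ.symm i)).2
  simpa using this

/-! ### Invariants -/

variable (F) in
/-- The determinant, as a unit. -/
noncomputable def det7 : O7 F →* Fˣ :=
  Matrix.GeneralLinearGroup.det.comp (isometryGroup F ⇑(sevenForm F)).subtype

theorem sevenForm_single (i : Fin 7) : sevenForm F (Pi.single i 1) = 1 := by
  simp [sevenForm_apply, Pi.single_apply]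

theorem sevenForm_diff {i j : Fin 7} (h : i ≠ j) :
    sevenForm F (Pi.single i 1 - Pi.single j 1) = 2 := by
  rw [sevenForm_apply, Finset.sum_eq_add (a := i) (b := j) h]
  · simp [h, Ne.symm h]; norm_num
  · intro k _ hk
    simp [hk.1, hk.2]
  · simp
  · simp

theorem refl_single (i : Fin 7) (hv : sevenForm F (Pi.single i 1) ≠ 0) :
    QForm.refl (sevenForm F) (Pi.single i 1) hv = dg F (Pi.mulSingle i (-1)) := by
  refine o7_ext fun x => ?_
  rw [act_dg, act7, QForm.act_refl, sevenForm_single, sevenForm_polar]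
  funext k
  by_cases h : k = i
  · subst h; simp [Pi.single_apply, sgnF_neg_one]; ring
  · simp [Pi.single_apply, h]

theorem refl_diff {i j : Fin 7} (h : i ≠ j) (h2 : (2 : F) ≠ 0)
    (hv : sevenForm F (Pi.single i 1 - Pi.single j 1) ≠ 0) :
    QForm.refl (sevenForm F) (Pi.single i 1 - Pi.single j 1) hv = pm F (swap i j) := by
  refine o7_ext fun x => ?_
  rw [act_pm, act7, QForm.act_refl, sevenForm_diff h, sevenForm_polar]
  funext k
  rw [Equiv.symm_swap, show ∑ l, (Pi.single i 1 - Pi.single j 1 : Fin 7 → F) l * x l = x i - x j by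
    simp [sub_mul, Finset.sum_sub_distrib, Pi.single_apply], inv_mul_cancel_left₀ h2]
  by_cases hi : k = i
  · subst hi; simp [h]
  · by_cases hj : k = j
    · subst hj; simp [Ne.symm h]
    · simp [hi, hj, Equiv.swap_apply_of_ne_of_ne hi hj]

/-- Signs as units of the field. -/
noncomputable def sgnU : ℤˣ →* Fˣ := Units.map (Int.castRingHom F : ℤ →* F)

theorem sgnU_neg_one : sgnU (F := F) (-1) = -1 := Units.ext (by simp [sgnU])

theorem sgnU_injective (h2 : (2 : F) ≠ 0) {u : ℤˣ} (h : sgnU (F := F) u = 1) : u = 1 :=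
  sgnF_injective h2 (congrArg Units.val h)

theorem det7_refl (v : Fin 7 → F) (hv : sevenForm F v ≠ 0) :
    det7 F (QForm.refl (sevenForm F) v hv) = -1 := by
  refine Units.ext ?_
  rw [Units.val_neg, Units.val_one, det7, MonoidHom.comp_apply, Matrix.GeneralLinearGroup.val_det_apply]
  exact QForm.det_reflectionMatrix (sevenForm F) hv

variable [Fintype F] [DecidableEq F]

variable (F) in
/-- Sphere sign and determinant. -/
noncomputable def inv7 : O7 F →* ℤˣ × Fˣ := (QForm.sphereSign (sevenForm F)).prod (det7 F)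

theorem mem_omega7_iff (h2 : (2 : F) ≠ 0) (g : O7 F) :
    g ∈ Omega F ⇑(sevenForm F) ↔ inv7 F g = 1 := by
  rw [QForm.mem_omega_iff_invariants h2 (sevenForm_nondegenerate h2), inv7, MonoidHom.prod_apply,
    Prod.mk_eq_one, Units.ext_iff (u := det7 F g), det7, MonoidHom.comp_apply,
    Matrix.GeneralLinearGroup.val_det_apply, Units.val_one, Subgroup.coe_subtype]

theorem inv7_dg (h2 : (2 : F) ≠ 0) (ε : SignVec) :
    inv7 F (dg F ε) = (∏ i, ε i, sgnU (∏ i, ε i)) := by
  have hs : ∀ i u, inv7 F (dg F (Pi.mulSingle i u)) = (u, sgnU u) := by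
    intro i u
    rcases Int.units_eq_one_or u with rfl | rfl
    · simp; rfl
    · have hv : sevenForm F (Pi.single i 1) ≠ 0 := by rw [sevenForm_single]; exact one_ne_zero
      rw [← refl_single i hv, inv7, MonoidHom.prod_apply, det7_refl, sgnU_neg_one]
      refine Prod.ext (Units.ext ?_) rfl
      show (QForm.sphereSign (sevenForm F) _ : ℤ) = _
      rw [QForm.sphereSign_refl _ h2 _ hv, sevenForm_single, map_one]
      rfl
  have hc : ∀ i u, ((inv7 F).comp (dg F)) (Pi.mulSingle i u) = (u, sgnU u) := hs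
  show ((inv7 F).comp (dg F)) ε = _
  conv_lhs => rw [← Finset.univ_prod_mulSingle ε, map_prod]
  simp only [hc]
  refine Prod.ext ?_ ?_
  · rw [Prod.fst_prod]
  · rw [Prod.snd_prod, map_prod]

theorem inv7_pm (h2 : (2 : F) ≠ 0) (hns : ¬IsSquare (2 : F)) (σ : Perm (Fin 7)) :
    inv7 F (pm F σ) = (1, sgnU (Perm.sign σ)) := by
  induction σ using Equiv.Perm.swap_induction_on with
  | one => simp; rfl
  | swap_mul τ i j h ih =>
    have hv : sevenForm F (Pi.single i 1 - Pi.single j 1) ≠ 0 := by rw [sevenForm_diff h]; exact h2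
    have hs : inv7 F (pm F (swap i j)) = (1, sgnU (-1)) := by
      rw [← refl_diff h h2 hv, inv7, MonoidHom.prod_apply, det7_refl, sgnU_neg_one]
      refine Prod.ext (Units.ext ?_) rfl
      show (QForm.sphereSign (sevenForm F) _ : ℤ) = _
      rw [QForm.sphereSign_refl _ h2 _ hv, sevenForm_diff h, quadraticChar_neg_one_iff_not_isSquare.2 hns]
      rfl
    rw [map_mul, map_mul, ih, hs, map_mul, Perm.sign_swap h, Prod.mk_mul_mk, one_mul, map_mul]

theorem mon_mem_omega_iff (h2 : (2 : F) ≠ 0) (hns : ¬IsSquare (2 : F)) (ε : SignVec) (σ : Perm (Fin 7)) :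
    mon F ε σ ∈ Omega F ⇑(sevenForm F) ↔ ∏ i, ε i = 1 ∧ Perm.sign σ = 1 := by
  rw [mem_omega7_iff h2, mon, map_mul, inv7_dg h2, inv7_pm h2 hns, Prod.mk_mul_mk, mul_one, Prod.mk_eq_one,
    ← map_mul]
  constructor
  · rintro ⟨h1, h⟩
    rw [h1, one_mul] at h
    exact ⟨h1, sgnU_injective h2 h⟩
  · rintro ⟨h1, h⟩
    rw [h1, h, one_mul, map_one]
    exact ⟨rfl, rfl⟩

end Cfsg.Agent.OmegaSevenSylow
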