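/-
The subgroup `2^6:D8` of `Ω₇(q)`, `q ≡ ±3 (mod 8)`, in monomial form: it is self-normalising in `Ω₇(q)`, and its only
non-trivial subgroup closed under fusion in `Ω₇(q)` is itself.
-/
import Cfsg.Agent.Lib.OmegaSevenSylow.Monomial

set_option autoImplicit false
set_option linter.unusedSectionVars false

namespace Cfsg.Agent.OmegaSevenSylow

open Equiv

variable (F : Type*) [Field F] [Fintype F] [DecidableEq F]

/-- The 2-group `2^6:D8`. -/
noncomputable def sylSeven : Subgroup (O7 F) where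
  carrier := {g | ∃ ε σ, ∏ i, ε i = 1 ∧ σ ∈ dihedral ∧ g = mon F ε σ}
  mul_mem' := by
    rintro _ _ ⟨ε, σ, hε, hσ, rfl⟩ ⟨δ, τ, hδ, hτ, rfl⟩
    refine ⟨_, _, ?_, dihedral.mul_mem hσ hτ, mon_mul ε δ σ τ⟩
    simp only [Pi.mul_apply, Finset.prod_mul_distrib]
    rw [hε, Equiv.prod_comp σ.symm δ, hδ, one_mul]
  one_mem' := ⟨1, 1, by simp, dihedral.one_mem, mon_one.symm⟩
  inv_mem' := by
    rintro _ ⟨ε, σ, hε, hσ, rfl⟩
    refine ⟨_, _, ?_, dihedral.inv_mem hσ, mon_inv ε σ⟩
    simp only [Pi.inv_apply, Finset.prod_inv_distrib]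
    rw [Equiv.prod_comp σ ε, hε, inv_one]

/-- The even sign changes. -/
noncomputable def evenSigns : Subgroup (O7 F) where
  carrier := {g | ∃ ε : SignVec, ∏ i, ε i = 1 ∧ g = dg F ε}
  mul_mem' := by
    rintro _ _ ⟨ε, hε, rfl⟩ ⟨δ, hδ, rfl⟩
    exact ⟨ε * δ, by simp [Finset.prod_mul_distrib, hε, hδ], (map_mul _ _ _).symm⟩
  one_mem' := ⟨1, by simp, (map_one _).symm⟩
  inv_mem' := by
    rintro _ ⟨ε, hε, rfl⟩
    exact ⟨ε⁻¹, by simp [hε], (map_inv _ _).symm⟩

variable {F}

theorem dg_eq_mon (ε : SignVec) : dg F ε = mon F ε 1 := by rw [mon, map_one, mul_one]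

theorem pm_eq_mon (σ : Perm (Fin 7)) : pm F σ = mon F 1 σ := by rw [mon, map_one, one_mul]

theorem mon_mem_sylSeven {ε : SignVec} {σ : Perm (Fin 7)} (hε : ∏ i, ε i = 1) (hσ : σ ∈ dihedral) :
    mon F ε σ ∈ sylSeven F :=
  ⟨ε, σ, hε, hσ, rfl⟩

theorem evenSigns_le : evenSigns F ≤ sylSeven F := by
  rintro _ ⟨ε, hε, rfl⟩
  rw [dg_eq_mon]
  exact mon_mem_sylSeven hε dihedral.one_mem

theorem pm_mem_sylSeven {σ : Perm (Fin 7)} (h : σ ∈ dihedral) : pm F σ ∈ sylSeven F := by
  rw [pm_eq_mon]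
  exact mon_mem_sylSeven (by simp) h

theorem act7_smul (g : O7 F) (r : F) (x : Fin 7 → F) : act7 g (r • x) = r • act7 g x :=
  Matrix.mulVec_smul _ r x

theorem card_even_signs : Fintype.card {ε : SignVec // ∏ i, ε i = 1} = 64 := by decide +kernel

theorem card_sylSeven (h2 : (2 : F) ≠ 0) : Nat.card (sylSeven F) = 512 := by
  let f : {ε : SignVec // ∏ i, ε i = 1} × dihedral → sylSeven F := fun p =>
    ⟨mon F p.1.1 p.2.1, mon_mem_sylSeven p.1.2 p.2.2⟩
  have hf : Function.Bijective f := by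
    refine ⟨fun p q h => ?_, fun g => ?_⟩
    · obtain ⟨h1, h2'⟩ := mon_inj h2 (congrArg Subtype.val h)
      exact Prod.ext (Subtype.ext h1) (Subtype.ext h2')
    · obtain ⟨ε, σ, hε, hσ, hg⟩ := g.2
      exact ⟨⟨⟨ε, hε⟩, ⟨σ, hσ⟩⟩, Subtype.ext hg.symm⟩
  rw [← Nat.card_congr (Equiv.ofBijective f hf), Nat.card_prod, card_dihedral, Nat.card_eq_fintype_card,
    card_even_signs]

theorem card_evenSigns (h2 : (2 : F) ≠ 0) : Nat.card (evenSigns F) = 64 := by
  let f : {ε : SignVec // ∏ i, ε i = 1} → evenSigns F := fun p => ⟨dg F p.1, p.1, p.2, rfl⟩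
  have hf : Function.Bijective f := by
    refine ⟨fun p q h => ?_, fun g => ?_⟩
    · have h' : dg F p.1 = dg F q.1 := congrArg Subtype.val h
      rw [dg_eq_mon, dg_eq_mon] at h'
      exact Subtype.ext (mon_inj h2 h').1
    · obtain ⟨ε, hε, hg⟩ := g.2
      exact ⟨⟨ε, hε⟩, Subtype.ext hg.symm⟩
  rw [← Nat.card_congr (Equiv.ofBijective f hf), Nat.card_eq_fintype_card, card_even_signs]

variable (h2 : (2 : F) ≠ 0)
include h2

/-- The even sign changes form the only elementary abelian subgroup of order 64. -/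
theorem eq_evenSigns {A : Subgroup (O7 F)} (hA : A ≤ sylSeven F) (hsq : ∀ g ∈ A, g * g = 1)
    (hcard : Nat.card A = 64) : A = evenSigns F := by
  classical
  have hperm : ∀ g : A, ∃ σ, σ ∈ dihedral ∧ ∃ ε : SignVec, ∏ i, ε i = 1 ∧ (g : O7 F) = mon F ε σ := by
    intro g
    obtain ⟨ε, σ, hε, hσ, hg⟩ := hA g.2
    exact ⟨σ, hσ, ε, hε, hg⟩
  choose π hπ ε hε hg using hperm
  let πh : A →* Perm (Fin 7) := MonoidHom.mk' π fun g g' => by
    have h : ((g * g' : A) : O7 F) = mon F (ε g * fun i => ε g' ((π g).symm i)) (π g * π g') := by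
      rw [Subgroup.coe_mul, hg g, hg g', mon_mul]
    rw [hg (g * g')] at h
    exact (mon_inj h2 h).2
  have hcomm : ∀ g g' : A, g * g' = g' * g := by
    intro g g'
    have hinv : ∀ x : A, x⁻¹ = x := fun x =>
      inv_eq_of_mul_eq_one_right (Subtype.ext (by simpa using hsq x x.2))
    rw [← hinv (g * g'), mul_inv_rev, hinv, hinv]
  have hfix : ∀ (k : πh.ker) (g : A) (i : Fin 7), ε k.1 (π g i) = ε k.1 i := by
    intro k g i
    have h := congrArg (fun x : A => (x : O7 F)) (hcomm k.1 g)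
    rw [Subgroup.coe_mul, Subgroup.coe_mul, hg k.1, hg g, show π k.1 = 1 from k.2, mon_mul, mon_mul] at h
    have h' := congrFun (mon_inj h2 h).1 (π g i)
    simp only [Pi.mul_apply, Equiv.symm_apply_apply] at h'
    rw [mul_comm (ε g (π g i))] at h'
    exact mul_right_cancel h'
  by_cases hR : ∀ g : A, π g = 1
  · refine Subgroup.eq_of_le_of_card_ge (fun x hx => ⟨ε ⟨x, hx⟩, hε _, ?_⟩) (by rw [card_evenSigns h2, hcard])
    rw [dg_eq_mon]
    exact (hg ⟨x, hx⟩).trans (by rw [hR])
  exfalso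
  have hsqR : ∀ g : A, π g * π g = 1 := fun g => by
    have : g * g = 1 := Subtype.ext (by simpa using hsq g g.2)
    rw [show π g * π g = π (g * g) from (map_mul πh g g).symm, this]
    exact map_one πh
  have hmulcard : Nat.card πh.range * Nat.card πh.ker = 64 := by
    rw [← Subgroup.index_ker, mul_comm, Subgroup.card_mul_index, hcard]
  have hker : ∀ (s : Finset SignVec),
      (∀ k : πh.ker, ε k.1 ∈ s) → Nat.card πh.ker ≤ s.card := by
    intro s hs
    rw [← Fintype.card_coe s, ← Nat.card_eq_fintype_card]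
    refine Nat.card_le_card_of_injective (fun k => (⟨ε k.1, hs k⟩ : s)) fun k k' h => ?_
    have he : ε k.1 = ε k'.1 := congrArg Subtype.val h
    refine Subtype.ext (Subtype.ext ?_)
    rw [hg k.1, hg k'.1, he, show π k.1 = 1 from k.2, show π k'.1 = 1 from k'.2]
  have hR8 : ∀ x : πh.range, (x : Perm (Fin 7)) ∈ dihedral := by
    rintro ⟨_, g, rfl⟩
    exact hπ g
  push Not at hR
  obtain ⟨g, hg1⟩ := hR
  obtain ⟨i, hi⟩ := hπ g
  have h16 : Nat.card πh.ker ≤ 16 := (hker _ fun k => by
    simp only [Finset.mem_filter, Finset.mem_univ, true_and]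
    exact ⟨hε _, fun l => by rw [hi]; exact hfix k g l⟩).trans
      (fixed_one i (by rw [hi]; exact hg1) (by rw [hi]; exact hsqR g))
  obtain ⟨g', hg'1, hg'g⟩ : ∃ g' : A, π g' ≠ 1 ∧ π g' ≠ π g := by
    by_contra hno
    push Not at hno
    have hle : Nat.card πh.range ≤ 2 := by
      calc Nat.card πh.range ≤ ({1, π g} : Finset (Perm (Fin 7))).card := by
            rw [← Fintype.card_coe, ← Nat.card_eq_fintype_card]
            refine Nat.card_le_card_of_injective
              (fun x => (⟨(x : Perm (Fin 7)), ?_⟩ : ({1, π g} : Finset (Perm (Fin 7)))))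
              fun x y h => Subtype.ext (congrArg (fun z => z.1) h :)
            obtain ⟨a, ha⟩ := x.2
            rw [← ha]
            by_cases h1 : π a = 1
            · simp [show πh a = 1 from h1]
            · simp [show πh a = π g from hno a h1]
        _ ≤ 2 := Finset.card_le_two
    nlinarith
  obtain ⟨j, hj⟩ := hπ g'
  have h8 : Nat.card πh.ker ≤ 8 := (hker _ fun k => by
    simp only [Finset.mem_filter, Finset.mem_univ, true_and]
    exact ⟨hε _, fun l => by rw [hi]; exact hfix k g l, fun l => by rw [hj]; exact hfix k g' l⟩).trans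
      (fixed_two i j (by rw [hi]; exact hg1) (by rw [hj]; exact hg'1)
        (fun e => hg'g (by rw [← hi, ← hj, e])) (by rw [hi]; exact hsqR g) (by rw [hj]; exact hsqR g') (by
          rw [hi, hj, show π g * π g' = π (g * g') from (map_mul πh g g').symm,
            show π g' * π g = π (g' * g) from (map_mul πh g' g).symm, hcomm]))
  have hle8 : Nat.card πh.range ≤ 8 := by
    rw [← card_dihedral]
    exact Nat.card_le_card_of_injective (fun x => (⟨x.1, hR8 x⟩ : dihedral))
      fun x y h => Subtype.ext (congrArg (fun z => z.1) h :)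
  have heq : Nat.card πh.range = Nat.card dihedral := by rw [card_dihedral]; nlinarith
  have hmem : rotA ∈ πh.range := by
    rw [Subgroup.eq_of_le_of_card_ge (fun x hx => hR8 ⟨x, hx⟩) heq.ge]
    exact rotA_mem
  obtain ⟨a, ha⟩ := hmem
  exact rotA_sq_ne (by rw [← ha]; exact hsqR a)

/-- A non-zero entry of a vector of norm one. -/
theorem exists_entry {x : Fin 7 → F} (h : sevenForm F x = 1) : ∃ k, x k ≠ 0 := by
  by_contra! hno
  rw [sevenForm_apply, Finset.sum_eq_zero (fun k _ => by rw [hno k, zero_mul])] at h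
  exact zero_ne_one h

/-- An isometry normalising the even sign changes is monomial. -/
theorem exists_mon_of_normalizes {g : O7 F} (hg : (evenSigns F).map (MulAut.conj g).toMonoidHom = evenSigns F) :
    ∃ ε σ, g = mon F ε σ := by
  have hconj : ∀ ε : SignVec, ∏ i, ε i = 1 → ∃ δ : SignVec, ∏ i, δ i = 1 ∧ g * dg F δ = dg F ε * g := by
    intro ε hε
    obtain ⟨y, ⟨δ, hδ, rfl⟩, hy⟩ : dg F ε ∈ (evenSigns F).map (MulAut.conj g).toMonoidHom := by
      rw [hg]; exact ⟨ε, hε, rfl⟩
    exact ⟨δ, hδ, by rw [← hy]; simp⟩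
  have hcol : ∀ j, ∃ k, ∀ l, l ≠ k → act7 g (Pi.single j 1) l = 0 := by
    intro j
    obtain ⟨k, hk⟩ := exists_entry h2 (x := act7 g (Pi.single j 1))
      (by rw [act7_form, sevenForm_single])
    refine ⟨k, fun l hlk => ?_⟩
    by_contra hl
    obtain ⟨m, hmk, hml⟩ : ∃ m : Fin 7, m ≠ k ∧ m ≠ l := by
      have h5 : ({k, l} : Finset (Fin 7))ᶜ.Nonempty := Finset.card_pos.1 (by
        rw [Finset.card_compl, Fintype.card_fin]
        have := Finset.card_le_two (a := k) (b := l)
        omega)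
      obtain ⟨m, hm⟩ := h5
      exact ⟨m, by simpa [not_or] using hm⟩
    obtain ⟨δ, -, hδ⟩ := hconj (flip2 k m) (flip2_even k m)
    have h := congrArg (fun x : O7 F => act7 x (Pi.single (M := fun _ : Fin 7 => F) j (1 : F))) hδ
    have hs : act7 (dg F δ) (Pi.single j (1 : F)) =
        (sgnF (F := F) (δ j)) • (Pi.single (M := fun _ : Fin 7 => F) j (1 : F)) := by
      rw [act_dg]
      funext i
      by_cases hij : i = j
      · subst hij; simp
      · simp [Pi.single_eq_of_ne hij]
    simp only [act7_mul, hs, act_dg] at h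
    rw [act7_smul] at h
    have hk' := mul_right_cancel₀ hk (congrFun h k :)
    have hl' := mul_right_cancel₀ hl (congrFun h l :)
    rw [flip2_apply (Ne.symm hmk), if_pos (Or.inl rfl), sgnF_neg_one] at hk'
    rw [flip2_apply (Ne.symm hmk), if_neg (by simp [hlk, Ne.symm hml]), map_one] at hl'
    exact h2 (by linear_combination (-1 : F) * hl' + hk')
  choose s hs using hcol
  let t : Fin 7 → F := fun j => act7 g (Pi.single j 1) (s j)
  have hcolumn : ∀ j, act7 g (Pi.single j 1) = Pi.single (s j) (t j) := fun j => funext fun l => by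
    by_cases h : l = s j
    · subst h; simp [t]
    · rw [hs j l h, Pi.single_eq_of_ne h]
  have ht : ∀ j, t j * t j = 1 := by
    intro j
    have h := act7_form g (Pi.single j 1)
    rw [sevenForm_single, hcolumn, sevenForm_apply, Fintype.sum_eq_single (s j)
      (fun l hl => by simp [Pi.single_eq_of_ne hl])] at h
    simpa using h
  have hsinj : Function.Injective s := by
    intro i j hij
    by_contra hne
    have h := QForm.act_polar (sevenForm F) g (Pi.single i 1) (Pi.single j 1)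
    have h' : QuadraticMap.polar ⇑(sevenForm F) (act7 g (Pi.single i 1)) (act7 g (Pi.single j 1)) =
        QuadraticMap.polar ⇑(sevenForm F) (Pi.single i 1) (Pi.single j 1) := h
    have e1 : ∀ x y : F, ∑ l, Pi.single (M := fun _ : Fin 7 => F) (s j) x l *
        Pi.single (M := fun _ : Fin 7 => F) (s j) y l = x * y := fun x y => by simp [Pi.single_apply]
    have e2 : ∑ l, Pi.single (M := fun _ : Fin 7 => F) i (1 : F) l *
        Pi.single (M := fun _ : Fin 7 => F) j (1 : F) l = 0 := by simp [Pi.single_apply, Ne.symm hne]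
    rw [hcolumn, hcolumn, sevenForm_polar, sevenForm_polar, hij, e1, e2, mul_zero] at h'
    have h0 := (mul_eq_zero.1 h').resolve_left h2
    have h1 : (1 : F) = (t i * t j) * (t i * t j) := by linear_combination (-(t j * t j)) * ht i - ht j
    rw [h0, mul_zero] at h1
    exact one_ne_zero h1
  let σ : Perm (Fin 7) := Equiv.ofBijective s (Finite.injective_iff_bijective.1 hsinj)
  have hu : ∀ j, ∃ u : ℤˣ, sgnF (F := F) u = t j := fun j => by
    rcases mul_self_eq_one_iff.1 (ht j) with h | h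
    · exact ⟨1, by rw [map_one, h]⟩
    · exact ⟨-1, by rw [sgnF_neg_one, h]⟩
  choose u hu using hu
  refine ⟨fun i => u (σ.symm i), σ, Subtype.ext (Units.ext (Matrix.ext_of_mulVec_single fun j => ?_))⟩
  show act7 g (Pi.single j 1) = act7 (mon F _ σ) (Pi.single j 1)
  rw [act_mon_single, hcolumn]
  show _ = Pi.single (s j) (sgnF (u (σ.symm (σ j))))
  rw [Equiv.symm_apply_apply, hu]

variable (hns : ¬IsSquare (2 : F))
include hns

theorem sylSeven_le_omega : sylSeven F ≤ Omega F ⇑(sevenForm F) := by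
  rintro _ ⟨ε, σ, hε, hσ, rfl⟩
  exact (mon_mem_omega_iff h2 hns ε σ).2 ⟨hε, sign_of_mem hσ⟩

/-- `2^6:D8` is self-normalising. -/
theorem mem_of_normalizes {g : O7 F} (hgΩ : g ∈ Omega F ⇑(sevenForm F))
    (hg : (sylSeven F).map (MulAut.conj g).toMonoidHom = sylSeven F) : g ∈ sylSeven F := by
  have hE : (evenSigns F).map (MulAut.conj g).toMonoidHom = evenSigns F := by
    refine eq_evenSigns h2 ((Subgroup.map_mono evenSigns_le).trans hg.le) ?_ ?_
    · rintro _ ⟨_, ⟨ε, -, rfl⟩, rfl⟩
      rw [← map_mul, ← map_mul, show ε * ε = 1 from funext fun i => Int.units_mul_self _, map_one, map_one]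
    · rw [Subgroup.card_map_of_injective (MulAut.conj g).injective, card_evenSigns h2]
  obtain ⟨ε, σ, rfl⟩ := exists_mon_of_normalizes h2 hE
  obtain ⟨hε, hσ⟩ := (mon_mem_omega_iff h2 hns ε σ).1 hgΩ
  refine mon_mem_sylSeven hε (mem_dihedral_of_conj hσ ?_)
  obtain ⟨δ, τ, -, hτ, h⟩ : mon F ε σ * pm F rotA * (mon F ε σ)⁻¹ ∈ sylSeven F := by
    rw [← hg]
    exact ⟨_, pm_mem_sylSeven rotA_mem, by simp⟩
  rw [pm_eq_mon, mon_inv, mon_mul, mon_mul] at h
  rw [(mon_inj h2 h).2]
  exact hτ

/-- An element of `Ω` conjugating the sign change at `0,1` to `(0 1)(2 3)`. -/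
theorem exists_conj_flip :
    ∃ g ∈ Omega F ⇑(sevenForm F), g * dg F (flip2 0 1) * g⁻¹ = pm F dt := by
  obtain ⟨a, b, hab⟩ := QForm.exists_two_squares_eq_one (F := F) h2 h2 h2
  let P : (Fin 7 → F) → Fin 7 → F := fun x =>
    ![a * x 0 - b * x 1 + a * x 2 - b * x 3, -(a * x 0) + b * x 1 + a * x 2 - b * x 3,
      b * x 0 + a * x 1 + b * x 2 + a * x 3, -(b * x 0) - a * x 1 + b * x 2 + a * x 3, x 4, x 5, x 6]
  let R : (Fin 7 → F) → Fin 7 → F := fun x =>
    ![a * x 0 - a * x 1 + b * x 2 - b * x 3, -(b * x 0) + b * x 1 + a * x 2 - a * x 3,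
      a * x 0 + a * x 1 + b * x 2 + b * x 3, -(b * x 0) - b * x 1 + a * x 2 + a * x 3, x 4, x 5, x 6]
  let f : (Fin 7 → F) ≃ₗ[F] (Fin 7 → F) :=
    { toFun := P
      invFun := R
      map_add' := fun x y => funext fun i => by fin_cases i <;> simp [P] <;> ring
      map_smul' := fun r x => funext fun i => by fin_cases i <;> simp [P] <;> ring
      left_inv := fun x => funext fun i => by
        fin_cases i <;> simp [P, R]
        · linear_combination (x 0) * hab
        · linear_combination (x 1) * hab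
        · linear_combination (x 2) * hab
        · linear_combination (x 3) * hab
      right_inv := fun x => funext fun i => by
        fin_cases i <;> simp [P, R]
        · linear_combination (x 0) * hab
        · linear_combination (x 1) * hab
        · linear_combination (x 2) * hab
        · linear_combination (x 3) * hab }
  have hf : ∀ x, sevenForm F (f x) = sevenForm F x := fun x => by
    simp only [sevenForm_apply, Fin.sum_univ_seven]
    simp [f, P]
    linear_combination (x 0 * x 0 + x 1 * x 1 + x 2 * x 2 + x 3 * x 3) * hab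
  set g₀ := ofMap f hf
  have key : g₀ * dg F (flip2 0 1) = pm F dt * g₀ := o7_ext fun x => by
    rw [act7_mul, act7_mul, act_dg, act_pm, act_ofMap, act_ofMap]
    funext i
    rw [show dt.symm i = ![1, 0, 3, 2, 4, 5, 6] i by revert i; decide +kernel]
    fin_cases i <;> simp [f, P, flip2_apply (show (0 : Fin 7) ≠ 1 by decide), sgnF_neg_one] <;> ring
  obtain ⟨k, hk, hkinv⟩ : ∃ k : O7 F, k * dg F (flip2 0 1) = dg F (flip2 0 1) * k ∧ inv7 F k = inv7 F g₀ := by
    let A := dg F (Pi.mulSingle 5 (-1))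
    let B := pm F (swap (5 : Fin 7) 6)
    have hA : inv7 F A = (-1, -1) := by
      rw [inv7_dg h2, Finset.prod_pi_mulSingle' 5, if_pos (Finset.mem_univ _), sgnU_neg_one]
    have hB : inv7 F B = (1, -1) := by
      rw [inv7_pm h2 hns, Perm.sign_swap (by decide), sgnU_neg_one]
    have cA : A * dg F (flip2 0 1) = dg F (flip2 0 1) * A := by
      rw [← map_mul, ← map_mul, mul_comm]
    have cB : B * dg F (flip2 0 1) = dg F (flip2 0 1) * B := by
      rw [← mul_inv_eq_iff_eq_mul, pm_conj, flip2_comp]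
      rfl
    obtain ⟨w, hw⟩ : ∃ w : ℤˣ, (inv7 F g₀).2 = sgnU w := by
      rcases ClassicalSimple.isometry_det (sevenForm F)
        (ClassicalSimple.bil_nondegenerate _ (sevenForm_nondegenerate h2)) g₀ with h | h
      · refine ⟨1, Units.ext ?_⟩
        rw [map_one, inv7, MonoidHom.prod_apply, det7, MonoidHom.comp_apply,
          Matrix.GeneralLinearGroup.val_det_apply, Units.val_one]
        exact h
      · refine ⟨-1, Units.ext ?_⟩
        rw [sgnU_neg_one, inv7, MonoidHom.prod_apply, det7, MonoidHom.comp_apply,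
          Matrix.GeneralLinearGroup.val_det_apply, Units.val_neg, Units.val_one]
        exact h
    rcases Int.units_eq_one_or (inv7 F g₀).1 with h | h <;> rcases Int.units_eq_one_or w with rfl | rfl
    · exact ⟨1, by simp, by rw [map_one]; exact (Prod.ext h (by rw [hw, map_one]; rfl)).symm⟩
    · exact ⟨B, cB, by rw [hB]; exact (Prod.ext h (by rw [hw, sgnU_neg_one])).symm⟩
    · refine ⟨A * B, by rw [mul_assoc, cB, ← mul_assoc, cA, mul_assoc], ?_⟩
      rw [map_mul, hA, hB]
      exact (Prod.ext (by simp [h]) (by simp [hw])).symm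
    · exact ⟨A, cA, by rw [hA]; exact (Prod.ext h (by rw [hw, sgnU_neg_one])).symm⟩
  have hk' : k⁻¹ * dg F (flip2 0 1) * k = dg F (flip2 0 1) := by
    rw [mul_assoc, ← hk, inv_mul_cancel_left]
  refine ⟨g₀ * k⁻¹, ?_, ?_⟩
  · rw [mem_omega7_iff h2, map_mul, map_inv, hkinv, mul_inv_cancel]
  · calc g₀ * k⁻¹ * dg F (flip2 0 1) * (g₀ * k⁻¹)⁻¹ = g₀ * (k⁻¹ * dg F (flip2 0 1) * k) * g₀⁻¹ := by group
      _ = pm F dt := by rw [hk', key, mul_inv_cancel_right]

/-- The only non-trivial subgroup of `2^6:D8` closed under fusion in `Ω₇(q)` is the whole group. -/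
theorem eq_bot_or_eq_sylSeven {T : Subgroup (O7 F)} (hT : T ≤ sylSeven F)
    (hcl : ∀ x ∈ T, ∀ g ∈ Omega F ⇑(sevenForm F), g * x * g⁻¹ ∈ sylSeven F → g * x * g⁻¹ ∈ T) :
    T = ⊥ ∨ T = sylSeven F := by
  refine or_iff_not_imp_left.2 fun hne => ?_
  have hnormal : ∀ x ∈ T, ∀ s ∈ sylSeven F, s * x * s⁻¹ ∈ T := fun x hx s hs =>
    hcl x hx s (sylSeven_le_omega h2 hns hs)
      ((sylSeven F).mul_mem ((sylSeven F).mul_mem hs (hT hx)) ((sylSeven F).inv_mem hs))
  -- a non-trivial even sign change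
  obtain ⟨ε₀, hε₀, hε₀T, hε₀1⟩ : ∃ ε : SignVec, ∏ i, ε i = 1 ∧ dg F ε ∈ T ∧ ε ≠ 1 := by
    obtain ⟨x, hx, hx1⟩ : ∃ x ∈ T, x ≠ 1 := by
      by_contra! h
      exact hne ((Subgroup.eq_bot_iff_forall T).2 h)
    obtain ⟨ε, σ, hε, hσ, rfl⟩ := hT hx
    by_cases hσ1 : σ = 1
    · subst hσ1
      refine ⟨ε, hε, by rwa [dg_eq_mon], ?_⟩
      rintro rfl
      exact hx1 mon_one
    · obtain ⟨i, hi⟩ : ∃ i, σ i ≠ i := by
        by_contra! h
        exact hσ1 (Equiv.ext h)
      obtain ⟨k, m, hk, -, -, -⟩ := exists_pair_eq 1 {i, σ i} (Finset.card_le_two.trans (by norm_num))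
      simp only [Finset.mem_insert, Finset.mem_singleton, not_or] at hk
      have hδ : dg F (flip2 i k) ∈ sylSeven F := evenSigns_le ⟨_, flip2_even i k, rfl⟩
      refine ⟨flip2 (σ i) (σ k) * flip2 i k, by simp [Finset.prod_mul_distrib, flip2_even], ?_, ?_⟩
      · rw [map_mul, ← flip2_comp σ i k, ← pm_conj]
        have h1 := T.mul_mem hx (hnormal _ (T.inv_mem hx) _ hδ)
        have hself : (dg F (flip2 i k))⁻¹ = dg F (flip2 i k) := by
          rw [← map_inv]
          exact congrArg _ (funext fun l => Int.units_inv_eq_self _)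
        have hc : (dg F ε) * (pm F σ * dg F (flip2 i k) * (pm F σ)⁻¹) =
            (pm F σ * dg F (flip2 i k) * (pm F σ)⁻¹) * dg F ε := by
          rw [pm_conj, ← map_mul, ← map_mul, mul_comm]
        rw [hself] at h1
        convert h1 using 1
        rw [mon, mul_inv_rev]
        calc pm F σ * dg F (flip2 i k) * (pm F σ)⁻¹ * dg F (flip2 i k)
            = (dg F ε * (pm F σ * dg F (flip2 i k) * (pm F σ)⁻¹)) * (dg F ε)⁻¹ * dg F (flip2 i k) := by
              rw [hc, mul_inv_cancel_right]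
          _ = _ := by group
      · intro h
        have h' := congrFun h (σ i)
        have hki : σ i ≠ σ k := fun e => hk.1 (σ.injective e).symm
        rw [Pi.mul_apply, flip2_apply hki, flip2_apply (Ne.symm hk.1), if_pos (Or.inl rfl),
          if_neg (by simp [hi, Ne.symm hk.2]), mul_one, Pi.one_apply] at h'
        exact absurd h' (by decide)
  -- closure of the set of these under even permutations and products
  let U : SignVec → Prop := fun ε => ∏ i, ε i = 1 ∧ dg F ε ∈ T
  have hUmul : ∀ ε δ, U ε → U δ → U (ε * δ) := fun ε δ h h' =>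
    ⟨by simp [Finset.prod_mul_distrib, h.1, h'.1], by rw [map_mul]; exact T.mul_mem h.2 h'.2⟩
  have hUperm : ∀ ε (σ : Perm (Fin 7)), U ε → Perm.sign σ = 1 → U fun i => ε (σ.symm i) := by
    intro ε σ h hs
    have he : ∏ i, ε (σ.symm i) = 1 := by rw [Equiv.prod_comp σ.symm ε]; exact h.1
    refine ⟨he, ?_⟩
    rw [← pm_conj]
    refine hcl _ h.2 _ ?_ ?_
    · rw [pm_eq_mon]
      exact (mon_mem_omega_iff h2 hns 1 σ).2 ⟨by simp, hs⟩
    · rw [pm_conj]
      exact evenSigns_le ⟨_, he, rfl⟩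
  obtain ⟨i₀, k₀, hik, hU0⟩ : ∃ i k, i ≠ k ∧ U (flip2 i k) := by
    obtain ⟨i, hi⟩ : ∃ i, ε₀ i = -1 := by
      by_contra! h
      exact hε₀1 (funext fun i => (Int.units_eq_one_or _).resolve_right (h i))
    obtain ⟨k, hk⟩ : ∃ k, ε₀ k = 1 := by
      by_contra! h
      rw [show ε₀ = fun _ => -1 from funext fun i => (Int.units_eq_one_or _).resolve_left (h i)] at hε₀
      exact absurd hε₀ (by decide)
    have hik : i ≠ k := fun e => by rw [e, hk] at hi; exact absurd hi (by decide)
    obtain ⟨l, m, hl, hm, hlm, he⟩ := exists_pair_eq ε₀ {i, k} (Finset.card_le_two.trans (by norm_num))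
    simp only [Finset.mem_insert, Finset.mem_singleton, not_or] at hl hm
    refine ⟨i, k, hik, ?_⟩
    have h := hUmul _ _ (hUperm ε₀ (swap i k * swap l m) ⟨hε₀, hε₀T⟩
      (by rw [map_mul, Perm.sign_swap hik, Perm.sign_swap hlm]; rfl)) ⟨hε₀, hε₀T⟩
    convert h using 1
    funext x
    have hs : (swap i k * swap l m).symm x = swap l m (swap i k x) := by
      rw [Equiv.symm_apply_eq]; simp
    rw [Pi.mul_apply, hs, flip2_apply hik]
    by_cases hxi : x = i
    · subst hxi; simp [Equiv.swap_apply_of_ne_of_ne (Ne.symm hl.2) (Ne.symm hm.2), hi, hk]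
    by_cases hxk : x = k
    · subst hxk; simp [Equiv.swap_apply_of_ne_of_ne (Ne.symm hl.1) (Ne.symm hm.1), hi, hk]
    rw [Equiv.swap_apply_of_ne_of_ne hxi hxk, if_neg (by simp [hxi, hxk])]
    by_cases hxl : x = l
    · subst hxl; simp [← he, Int.units_mul_self]
    by_cases hxm : x = m
    · subst hxm; simp [he, Int.units_mul_self]
    rw [Equiv.swap_apply_of_ne_of_ne hxl hxm, Int.units_mul_self]
  have hstep : ∀ i k k', i ≠ k → i ≠ k' → U (flip2 i k) → U (flip2 i k') := by
    intro i k k' h h' hU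
    by_cases hkk : k = k'
    · exact hkk ▸ hU
    obtain ⟨l, m, hl, hm, hlm, -⟩ := exists_pair_eq 1 {i, k, k'}
      (Finset.card_le_three)
    simp only [Finset.mem_insert, Finset.mem_singleton, not_or] at hl hm
    have h1 := hUperm _ (swap k k' * swap l m) hU
      (by rw [map_mul, Perm.sign_swap hkk, Perm.sign_swap hlm]; rfl)
    rw [flip2_comp] at h1
    simpa [Equiv.swap_apply_of_ne_of_ne h h', Equiv.swap_apply_of_ne_of_ne (Ne.symm hl.1) (Ne.symm hm.1),
      Equiv.swap_apply_of_ne_of_ne (Ne.symm hl.2.1) (Ne.symm hm.2.1)] using h1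
  have hall : ∀ i k, U (flip2 i k) := by
    intro i k
    by_cases hne' : i = k
    · subst hne'
      rw [show flip2 i i = 1 from funext fun x => by simp [flip2, Int.units_mul_self]]
      exact ⟨by simp, by rw [map_one]; exact T.one_mem⟩
    by_cases hi0 : i = i₀
    · subst hi0
      exact hstep _ _ _ hik hne' hU0
    · have h1 : U (flip2 i₀ i) := hstep _ _ _ hik (Ne.symm hi0) hU0
      rw [flip2_comm] at h1
      exact hstep _ _ _ hi0 hne' h1
  have hE : ∀ ε : SignVec, ∏ i, ε i = 1 → dg F ε ∈ T := by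
    intro ε hε
    have hdec : ε = ∏ i, (if ε i = -1 then flip2 i 6 else 1) := by
      have hterm : ∀ i, (if ε i = -1 then flip2 i 6 else 1) = Pi.mulSingle i (ε i) * Pi.mulSingle 6 (ε i) := by
        intro i
        rcases Int.units_eq_one_or (ε i) with h | h <;> simp [h, flip2]
      have hlast : ∏ i, (Pi.mulSingle (6 : Fin 7) (ε i) : SignVec) = 1 := by
        rw [show (1 : SignVec) = Pi.mulSingle 6 (∏ i, ε i) by rw [hε, Pi.mulSingle_one]]
        exact (map_prod (MonoidHom.mulSingle (fun _ : Fin 7 => ℤˣ) 6) _ _).symm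
      rw [Finset.prod_congr rfl (fun i _ => hterm i), Finset.prod_mul_distrib, Finset.univ_prod_mulSingle,
        hlast, mul_one]
    have hUε : U ε := by
      rw [hdec]
      refine Finset.prod_induction _ U hUmul ⟨by simp, by rw [map_one]; exact T.one_mem⟩ fun i _ => ?_
      by_cases h : ε i = -1
      · rw [if_pos h]; exact hall i 6
      · rw [if_neg h]; exact ⟨by simp, by rw [map_one]; exact T.one_mem⟩
    exact hUε.2
  -- the double transpositions
  obtain ⟨c, hc, hcc⟩ := exists_conj_flip h2 hns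
  have hdt : pm F dt ∈ T := by
    rw [← hcc]
    exact hcl _ (hE _ (flip2_even 0 1)) c hc (by rw [hcc]; exact pm_mem_sylSeven dt_mem)
  have hmoves : ∀ i, pm F (moves i * dt * (moves i)⁻¹) ∈ T := by
    intro i
    rw [map_mul, map_mul, map_inv]
    refine hcl _ hdt _ ?_ ?_
    · rw [pm_eq_mon]
      exact (mon_mem_omega_iff h2 hns 1 _).2 ⟨by simp, sign_moves i⟩
    · rw [← map_inv, ← map_mul, ← map_mul]
      exact pm_mem_sylSeven (moves_dt i)
  have hd8 : ∀ i, pm F (d8 i) ∈ T := by
    intro i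
    rcases moves_generate i with h | ⟨k, h⟩ | ⟨k, l, h⟩
    · rw [h, map_one]; exact T.one_mem
    · rw [h]; exact hmoves k
    · rw [h, map_mul]; exact T.mul_mem (hmoves k) (hmoves l)
  refine le_antisymm hT ?_
  rintro _ ⟨ε, σ, hε, ⟨i, rfl⟩, rfl⟩
  exact T.mul_mem (hE ε hε) (hd8 i)

end Cfsg.Agent.OmegaSevenSylow
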